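import Cfsg.Agent.H577.XZ.Trans
import Cfsg.Agent.H624.XZ.Trans
import Cfsg.Agent.H364.XR.Crit
import Cfsg.Agent.H845.KB.AbPsl
import Cfsg.Agent.H734.KB.RowPSL
import Cfsg.Agent.H724.KB.RowPSU
import Cfsg.Agent.H120.GLB.Ctx
import Cfsg.Agent.H614.GU.Fld

/-!
# S4791 + S4927, label route: the rows `PSL_n` and `PSU_n` from the count in `GL_n`, `GU_n` (helper577)

`e = ord_p(q)` resp. `ord_p(-q)`, `e ≥ 2`.

* `exists_ctx_gl`, `exists_ctx_gu` : the field `K` and `θ`, with `p ∣ M`;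
* `two_mul_le_psl`, `two_mul_le_psu` : `2 e ≤ n` if the Sylow `p`-subgroups are not cyclic;
* `CntGL`, `CntGU` : the counts (`w = n / e` prime to `p`);
* `row_psl_of`, `row_psu_of` : `p + 1 ≤ x0 p M (GL_n(F))` gives the row of `S ≅ PSL_n(F)`;
* `row_psl_cnt`, `row_psu_cnt` : the rows from `CntGL`, `CntGU`.
-/

set_option autoImplicit false
set_option linter.unusedSectionVars false

open Cfsg Subgroup
open Cfsg.Agent.H674.XZ Cfsg.Agent.H668.XZ Cfsg.Agent.H508.KB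

namespace Cfsg.Agent.H577.XZ

universe u

/-! ### the context -/

section ctx

open Cfsg.Agent.H577.GLB.Std Cfsg.Agent.H614 Cfsg.Agent.H614.GLn Cfsg.Agent.H615.GU Cfsg.Agent.H614.GU

/-- `p` divides `M` -/
theorem dvd_of_ctxQ {K : Type*} [Field K] {θ : K →*₀ ℂ} {Q : ℤ} {M N p : ℕ} (C : CtxQ θ Q M N) {e : ℕ}
    (he : orderOf (Q : ZMod p) = e) (he0 : 0 < e) (heN : e ≤ N) : p ∣ M := by
  have h1 := C.dvd e he0 heN
  have h2 : (p : ℤ) ∣ Q ^ e - 1 := by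
    rw [← ZMod.intCast_zmod_eq_zero_iff_dvd, Int.cast_sub, Int.cast_pow, Int.cast_one, ← he, pow_orderOf_eq_one, sub_self]
  exact Int.natCast_dvd_natCast.1 (h2.trans h1)

/-- **The context for `GL`.** -/
theorem exists_ctx_gl (F : Type u) [Field F] [Fintype F] (N : ℕ) (p : ℕ) {e : ℕ}
    (he : orderOf ((Fintype.card F : ℕ) : ZMod p) = e) (he0 : 0 < e) (heN : e ≤ N) :
    ∃ (K : Type u) (_ : Field K) (_ : Algebra F K) (θ : K →*₀ ℂ) (M : ℕ) (_ : NeZero M), Ctx F θ N M ∧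
      CtxQ θ ((Fintype.card F : ℕ) : ℤ) M N ∧ p ∣ M := by
  obtain ⟨K, i1, i2, θ, M, i3, C⟩ := H120.GLB.Ctx.exists_ctx F N
  have h1 : CtxQ θ ((Fintype.card F : ℕ) : ℤ) M N := by
    rw [← Nat.card_eq_fintype_card]
    exact ctxQ_card C
  refine ⟨K, i1, i2, θ, M, i3, C, h1, dvd_of_ctxQ h1 (e := e) ?_ he0 heN⟩
  rw [Int.cast_natCast]
  exact he

/-- **The context for `GU`.** -/
theorem exists_ctx_gu (F : Type u) [Field F] [Fintype F] {q : ℕ} (hF : Fintype.card F = q ^ 2) (N : ℕ) (p : ℕ) {e : ℕ}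
    (he : orderOf (-(q : ZMod p)) = e) (he0 : 0 < e) (heN : e ≤ N) :
    ∃ (K : Type u) (_ : Field K) (_ : Algebra F K) (θ : K →*₀ ℂ) (M : ℕ) (_ : NeZero M), Ctx F θ N M ∧
      CtxQ θ (-(q : ℤ)) M N ∧ p ∣ M := by
  obtain ⟨K, i1, i2, θ, M, i3, C⟩ := H120.GLB.Ctx.exists_ctx F N
  have h1 : CtxQ θ (-(q : ℤ)) M N := ctxQ_of_ctx C (by rw [Nat.card_eq_fintype_card, hF])
  refine ⟨K, i1, i2, θ, M, i3, C, h1, dvd_of_ctxQ h1 (e := e) ?_ he0 heN⟩
  rw [Int.cast_neg, Int.cast_natCast]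
  exact he

end ctx

variable {p : ℕ} [hp : Fact p.Prime] {M : Ideal AlgInt}

/-! ### arithmetic -/

theorem dvd_iff_gl {q : ℕ} (hq : 0 < q) (m : ℕ) : p ∣ q ^ m - 1 ↔ orderOf (q : ZMod p) ∣ m := by
  rw [orderOf_dvd_iff_pow_eq_one, ← Nat.cast_pow, ← Nat.cast_one (R := ZMod p), ZMod.natCast_eq_natCast_iff,
    Nat.ModEq.comm, Nat.modEq_iff_dvd' (Nat.one_le_pow _ _ hq)]

theorem ord_gl_pos {q : ℕ} (hpq : ¬ p ∣ q) : 0 < orderOf (q : ZMod p) := by
  rw [orderOf_pos_iff]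
  have h0 : (q : ZMod p) ≠ 0 := by
    rw [Ne, ZMod.natCast_eq_zero_iff]
    exact hpq
  have := hp.out.one_lt
  exact isOfFinOrder_iff_pow_eq_one.2 ⟨p - 1, by omega, ZMod.pow_card_sub_one_eq_one h0⟩

theorem ord_gl_eq_one {q : ℕ} (hq : 0 < q) : orderOf (q : ZMod p) = 1 ↔ p ∣ q - 1 := by
  have h1 := dvd_iff_gl (p := p) hq 1
  rw [pow_one] at h1
  rw [h1, Nat.dvd_one]

theorem ord_gu_pos {q : ℕ} (hpq : ¬ p ∣ q) : 0 < orderOf (-(q : ZMod p)) := by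
  rw [orderOf_pos_iff]
  have h0 : -(q : ZMod p) ≠ 0 := by
    rw [Ne, neg_eq_zero, ZMod.natCast_eq_zero_iff]
    exact hpq
  have := hp.out.one_lt
  exact isOfFinOrder_iff_pow_eq_one.2 ⟨p - 1, by omega, ZMod.pow_card_sub_one_eq_one h0⟩

theorem ord_gu_eq_one {q : ℕ} : orderOf (-(q : ZMod p)) = 1 ↔ p ∣ q + 1 := by
  rw [orderOf_eq_one_iff, ← ZMod.natCast_eq_zero_iff, neg_eq_iff_eq_neg, eq_neg_iff_add_eq_zero]
  push_cast
  exact Iff.rfl

theorem not_dvd_card {F : Type*} [Field F] [Fintype F] (hpF : (p : F) ≠ 0) : ¬ p ∣ Fintype.card F := by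
  obtain ⟨r, hr⟩ := CharP.exists F
  have hr' : Fact r.Prime := ⟨CharP.char_is_prime F r⟩
  obtain ⟨f, -, hf⟩ := FiniteField.card F r
  intro h
  rw [hf] at h
  have h1 : p = r := (Nat.prime_dvd_prime_iff_eq hp.out hr'.out).1 (hp.out.dvd_of_dvd_pow h)
  apply hpF
  rw [h1]
  exact CharP.cast_eq_zero F r

omit hp in
theorem cast_ne_zero {r : ℕ} [hr : Fact r.Prime] [hp : Fact p.Prime] (hrp : r ≠ p) (F : Type*) [Field F] [CharP F r] :
    (p : F) ≠ 0 := by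
  intro h0
  rw [CharP.cast_eq_zero_iff F r] at h0
  exact hrp ((Nat.prime_dvd_prime_iff_eq hr.out hp.out).1 h0)

section psl

variable {F : Type} [Field F] [Fintype F] {n : ℕ} {S : Type u} [Group S] [Finite S]

/-- the Sylow `p`-subgroups are cyclic if `n < 2 e` -/
theorem two_mul_le_psl (hpF : (p : F) ≠ 0) (e : Nonempty (S ≃* Matrix.ProjectiveSpecialLinearGroup (Fin n) F))
    (hP : ∀ P : Sylow p S, ¬ IsCyclic (P : Subgroup S)) : 2 * orderOf ((Fintype.card F : ℕ) : ZMod p) ≤ n := by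
  obtain ⟨e⟩ := e
  by_contra hlt
  have hOrd : H200.LinFix.Ordd p (Nat.card F) (orderOf ((Fintype.card F : ℕ) : ZMod p)) := by
    intro m hm
    rw [Nat.card_eq_fintype_card] at hm
    exact (dvd_iff_gl (p := p) Fintype.card_pos m).1 hm
  obtain ⟨P, hc⟩ := H734.KB.psl_cyclic (p := p) (not_le.1 hlt) hOrd hpF
  apply hP (P.mapSurjective (f := e.symm.toMonoidHom) e.symm.surjective)
  have h2 : ((P.mapSurjective (f := e.symm.toMonoidHom) e.symm.surjective : Sylow p S) : Subgroup S) =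
      (P : Subgroup (Matrix.ProjectiveSpecialLinearGroup (Fin n) F)).map e.symm.toMonoidHom := rfl
  rw [h2]
  exact isCyclic_of_surjective _ (e.symm.toMonoidHom.subgroupMap_surjective
    (P : Subgroup (Matrix.ProjectiveSpecialLinearGroup (Fin n) F)))

/-- **The row `PSL_n(F)` from the count in `GL_n(F)`.** -/
theorem row_psl_of {r : ℕ} [Fact r.Prime] (hrp : r ≠ p) (h5 : 5 ≤ p) (hM : IsPModular p M) [IsSimpleGroup S]
    (hS : IsPSLChar r S) (hpF : (p : F) ≠ 0) (hn : n ≠ 0) (hpq : ¬ p ∣ Fintype.card F - 1)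
    (e : Nonempty (S ≃* Matrix.ProjectiveSpecialLinearGroup (Fin n) F)) (hx : p + 1 ≤ x0 p M (GL (Fin n) F)) :
    Row0 p M S :=
  H364.XR.row_of_ab hM (H845.KB.ab_psl p S hrp h5 hS) (hx.trans (x0_gl hM (by omega) hn hpF hpq e).le)

/-- the count for `GL_n(F)`, `w = n / e` prime to `p` -/
def CntGL (p : ℕ) (M : Ideal AlgInt) : Prop :=
  ∀ (F : Type) [Field F] [Fintype F] (n : ℕ), (p : F) ≠ 0 → ¬ p ∣ Fintype.card F - 1 →
    2 * orderOf ((Fintype.card F : ℕ) : ZMod p) ≤ n → ¬ p ∣ n / orderOf ((Fintype.card F : ℕ) : ZMod p) →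
    p + 1 ≤ x0 p M (GL (Fin n) F)

/-- **The row `PSL_n(F)`**, `e ≥ 2`, `w` prime to `p` -/
theorem row_psl_cnt (hcnt : CntGL p M) {r : ℕ} [Fact r.Prime] [CharP F r] (hrp : r ≠ p) (h5 : 5 ≤ p)
    (hM : IsPModular p M) [IsSimpleGroup S] (hS : IsPSLChar r S)
    (e : Nonempty (S ≃* Matrix.ProjectiveSpecialLinearGroup (Fin n) F)) (hP : ∀ P : Sylow p S, ¬ IsCyclic (P : Subgroup S))
    (he : orderOf ((Fintype.card F : ℕ) : ZMod p) ≠ 1)
    (hw : ¬ p ∣ n / orderOf ((Fintype.card F : ℕ) : ZMod p)) : Row0 p M S := by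
  have hpF : (p : F) ≠ 0 := cast_ne_zero hrp F
  have h2 := two_mul_le_psl hpF e hP
  have h3 := ord_gl_pos (not_dvd_card hpF)
  have hpq : ¬ p ∣ Fintype.card F - 1 := fun h => he ((ord_gl_eq_one Fintype.card_pos).2 h)
  exact row_psl_of hrp h5 hM hS hpF (by omega) hpq e (hcnt F n hpF hpq h2 hw)

end psl

section psu

variable {F : Type} [Field F] [Fintype F] {n q : ℕ} {S : Type u} [Group S] [Finite S]

omit [Fintype F] in
theorem not_dvd_q [Fintype F] (hF : Fintype.card F = q ^ 2) (hpF : (p : F) ≠ 0) : ¬ p ∣ q := by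
  intro h
  apply not_dvd_card hpF
  rw [hF]
  exact Dvd.dvd.pow h two_ne_zero

theorem ordM : H724.KB.OrdM p q (orderOf (-(q : ZMod p))) := by
  intro m
  rw [orderOf_dvd_iff_pow_eq_one, ← ZMod.intCast_zmod_eq_zero_iff_dvd, Int.cast_sub, Int.cast_pow, Int.cast_neg,
    Int.cast_natCast, Int.cast_one, sub_eq_zero]

/-- the Sylow `p`-subgroups are cyclic if `n < 2 e` -/
theorem two_mul_le_psu (hF : Fintype.card F = q ^ 2) (hn3 : 3 ≤ n) (hpq : ¬ p ∣ q)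
    (e : Nonempty (S ≃* PSU n F q)) (hP : ∀ P : Sylow p S, ¬ IsCyclic (P : Subgroup S)) :
    2 * orderOf (-(q : ZMod p)) ≤ n := by
  obtain ⟨e⟩ := e
  by_cases hd1 : orderOf (-(q : ZMod p)) = 1
  · omega
  · by_contra hlt
    have hq : p.Coprime (q + 1) := by
      rw [hp.out.coprime_iff_not_dvd]
      exact fun h1 => hd1 (ord_gu_eq_one.2 h1)
    obtain ⟨P, hc⟩ := H724.KB.psu_cyclic hF hn3 (ord_gu_pos hpq) (not_le.1 hlt) ordM hq
    have hfin : Finite (PSU n F q) := Quotient.finite _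
    apply hP (P.mapSurjective (f := e.symm.toMonoidHom) e.symm.surjective)
    have h2 : ((P.mapSurjective (f := e.symm.toMonoidHom) e.symm.surjective : Sylow p S) : Subgroup S) =
        (P : Subgroup (PSU n F q)).map e.symm.toMonoidHom := rfl
    rw [h2]
    exact isCyclic_of_surjective _ (e.symm.toMonoidHom.subgroupMap_surjective (P : Subgroup (PSU n F q)))

/-- **The row `PSU_n(q)` from the count in `GU_n(q)`.** -/
theorem row_psu_of {r : ℕ} [Fact r.Prime] (hrp : r ≠ p) (h5 : 5 ≤ p) (hM : IsPModular p M)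
    (hS : IsPSUChar r S) (hpF : (p : F) ≠ 0) (hF : Fintype.card F = q ^ 2) (hn : 3 ≤ n) (hpq : ¬ p ∣ q + 1)
    (e : Nonempty (S ≃* PSU n F q)) (hx : p + 1 ≤ x0 p M (GU n F q)) : Row0 p M S :=
  H364.XR.row_of_ab hM (H107.AutU.ab_psu hrp h5 hS) (hx.trans (H624.XZ.x0_gu hM (by omega) hF hn hpF hpq e).le)

/-- the count for `GU_n(q)`, `w = n / e` prime to `p` -/
def CntGU (p : ℕ) (M : Ideal AlgInt) : Prop :=
  ∀ (F : Type) [Field F] [Fintype F] (q n : ℕ), Fintype.card F = q ^ 2 → (p : F) ≠ 0 → ¬ p ∣ q + 1 →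
    2 * orderOf (-(q : ZMod p)) ≤ n → ¬ p ∣ n / orderOf (-(q : ZMod p)) → p + 1 ≤ x0 p M (GU n F q)

/-- **The row `PSU_n(q)`**, `e ≥ 2`, `w` prime to `p` -/
theorem row_psu_cnt (hcnt : CntGU p M) {r : ℕ} [Fact r.Prime] [CharP F r] (hrp : r ≠ p) (h5 : 5 ≤ p)
    (hM : IsPModular p M) (hS : IsPSUChar r S) (hF : Fintype.card F = q ^ 2) (hn : 3 ≤ n)
    (e : Nonempty (S ≃* PSU n F q)) (hP : ∀ P : Sylow p S, ¬ IsCyclic (P : Subgroup S))
    (he : orderOf (-(q : ZMod p)) ≠ 1) (hw : ¬ p ∣ n / orderOf (-(q : ZMod p))) : Row0 p M S := by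
  have hpF : (p : F) ≠ 0 := cast_ne_zero hrp F
  have hpq : ¬ p ∣ q := not_dvd_q hF hpF
  have h2 := two_mul_le_psu hF hn hpq e hP
  have hpq1 : ¬ p ∣ q + 1 := fun h => he (ord_gu_eq_one.2 h)
  exact row_psu_of hrp h5 hM hS hpF hF hn hpq1 e (hcnt F q n hF hpF hpq1 h2 hw)

end psu

end Cfsg.Agent.H577.XZ
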