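import Cfsg.Agent.H577.XZ.Rows
import Cfsg.Agent.H794.XZ.X0

/-!
# S4791 + S4927: the rows `PSL_n(q)`, `PSU_n(q)` with `ord_p(q) ≥ 2`, `ord_p(-q) ≥ 2` (helper577)

`row_psl_two`, `row_psu_two` : from the counts of helper794 (all `w ≥ 2`).
-/

set_option autoImplicit false
set_option linter.unusedSectionVars false

open Cfsg Subgroup
open Cfsg.Agent.H674.XZ Cfsg.Agent.H668.XZ Cfsg.Agent.H508.KB

namespace Cfsg.Agent.H577.XZ

universe u

variable {p : ℕ} [hp : Fact p.Prime] {M : Ideal AlgInt} {S : Type u} [Group S] [Finite S]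

/-- **`PSL_n(F)`, `ord_p |F| ≥ 2`.** -/
theorem row_psl_two {F : Type} [Field F] [Fintype F] {n r : ℕ} [Fact r.Prime] [CharP F r] (hrp : r ≠ p) (h5 : 5 ≤ p)
    (hM : IsPModular p M) [IsSimpleGroup S] (hS : IsPSLChar r S)
    (e : Nonempty (S ≃* Matrix.ProjectiveSpecialLinearGroup (Fin n) F)) (hP : ∀ P : Sylow p S, ¬ IsCyclic (P : Subgroup S))
    (he : orderOf ((Fintype.card F : ℕ) : ZMod p) ≠ 1) : Row0 p M S := by
  have hpF : (p : F) ≠ 0 := cast_ne_zero hrp F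
  have h2 := two_mul_le_psl hpF e hP
  have h3 := ord_gl_pos (not_dvd_card hpF)
  have hpq : ¬ p ∣ Fintype.card F - 1 := fun h => he ((ord_gl_eq_one Fintype.card_pos).2 h)
  exact row_psl_of hrp h5 hM hS hpF (by omega) hpq e (H794.XZ.x0_gl_ge hM hpF (by omega) h2)

/-- **`PSU_n(q)`, `ord_p(-q) ≥ 2`.** -/
theorem row_psu_two {F : Type} [Field F] [Fintype F] {n q r : ℕ} [Fact r.Prime] [CharP F r] (hrp : r ≠ p) (h5 : 5 ≤ p)
    (hM : IsPModular p M) (hS : IsPSUChar r S) (hF : Fintype.card F = q ^ 2) (hn : 3 ≤ n)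
    (e : Nonempty (S ≃* PSU n F q)) (hP : ∀ P : Sylow p S, ¬ IsCyclic (P : Subgroup S))
    (he : orderOf (-(q : ZMod p)) ≠ 1) : Row0 p M S := by
  have hpF : (p : F) ≠ 0 := cast_ne_zero hrp F
  have hpq : ¬ p ∣ q := not_dvd_q hF hpF
  have h2 := two_mul_le_psu hF hn hpq e hP
  have h3 := ord_gu_pos hpq
  have hpq1 : ¬ p ∣ q + 1 := fun h => he (ord_gu_eq_one.2 h)
  have hc : (((-(q : ℤ) : ℤ)) : ZMod p) = -(q : ZMod p) := by push_cast; rfl
  exact row_psu_of hrp h5 hM hS hpF hF hn hpq1 e (H794.XZ.x0_gu_ge hM hF hpF (by rw [hc]; omega) (by rw [hc]; exact h2))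

end Cfsg.Agent.H577.XZ
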