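import Cfsg.Agent.H668.XZ.Up
import Cfsg.Agent.H685.Alperin
import Cfsg.Agent.Blocks.PrincipalInflate
import Cfsg.Agent.H107.AutU.Main
import Cfsg.Agent.H133.PB.Basic

/-!
# S4791 + S4927, label route: transfer of `x0` (helper577)

* `x0_normal` : `N` normal of index prime to `p`, `G = N C_G(P)`: `x0 p M G = x0 p M N`;
* `x0_surj` : `π : H → C` onto with kernel of order prime to `p`: `x0 p M H = x0 p M C`;
* `x0_gl` : `S` isomorphic to `PSL_n(F)`, `p ∤ |F| - 1`, `p` not the characteristic: `x0 p M (GL_n(F)) = x0 p M S`;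
* `x0_gu` : the same for `GU_n(q)`, `PSU_n(q)`, `p ∤ q + 1`.
-/

set_option autoImplicit false

open Cfsg Subgroup
open Cfsg.Agent.H674.XZ Cfsg.Agent.Characters.Core
open scoped ComplexConjugate

namespace Cfsg.Agent.H577.XZ

universe u v

section general

variable {p : ℕ} [hp : Fact p.Prime] {M : Ideal AlgInt}

omit hp in
theorem alm_of_forall {X Y : Type*} {χ : X → ℂ} {ψ : Y → ℂ} (h : Alm p χ) (f : ∀ y, ∃ x, ψ y = χ x) : Alm p ψ := by
  obtain ⟨n, h1, h2, h3⟩ := h
  refine ⟨n, h1, h2, fun y => ?_⟩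
  obtain ⟨x, hx⟩ := f y
  rw [hx]
  exact h3 x

omit hp in
theorem finite_m0 (p : ℕ) (M : Ideal AlgInt) (G : Type u) [Group G] [Finite G] :
    Finite {χ : IrrCharacter G // Mem0 p M χ} := by
  have hfin : Finite (IrrCharacter G) := finite_irr
  infer_instance

/-- restriction to `N` -/
theorem x0_le_normal (hM : IsPModular p M) {G : Type u} [Group G] [Finite G] (N : Subgroup G) [N.Normal]
    (hidx : ¬ p ∣ N.index) (P : Sylow p G) (hsup : N ⊔ centralizer ((P : Subgroup G) : Set G) = ⊤) :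
    x0 p M G ≤ x0 p M N := by
  have := finite_m0 p M N
  refine Nat.card_le_card_of_injective (fun χ : {χ : IrrCharacter G // Mem0 p M χ} =>
    (⟨⟨fun n : N => (χ.1 : G → ℂ) n, H685.Alperin.isIrr_restrict hM P hsup χ.2.1⟩,
      H685.Alperin.restrict_mem hM χ.2.1 _, ?_, ?_⟩ : {χ : IrrCharacter N // Mem0 p M χ})) ?_
  · exact χ.2.2.1
  · exact alm_of_forall χ.2.2.2 fun n => ⟨(n : G), rfl⟩
  · intro a b hab
    apply Subtype.ext
    refine H685.Alperin.unique hM hidx P hsup b.2.1 a.2.1 fun n => ?_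
    have h1 := congrArg (fun z : {χ : IrrCharacter N // Mem0 p M χ} => (z.1 : N → ℂ) n) hab
    exact h1

/-- **restriction to `N`**, `G = N C_G(P)` -/
theorem x0_normal (hM : IsPModular p M) {G : Type u} [Group G] [Finite G] (N : Subgroup G) [N.Normal]
    (hidx : ¬ p ∣ N.index) (P : Sylow p G) (hsup : N ⊔ centralizer ((P : Subgroup G) : Set G) = ⊤) :
    x0 p M G = x0 p M N := by
  classical
  refine le_antisymm (x0_le_normal hM N hidx P hsup) ?_
  let _ := Fintype.ofFinite N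
  have := finite_m0 p M G
  have key : ∀ θ : {χ : IrrCharacter N // Mem0 p M χ}, ∃ χ : {χ : IrrCharacter G // Mem0 p M χ},
      ∀ n : N, (χ.1 : G → ℂ) n = (θ.1 : N → ℂ) n := by
    intro θ
    obtain ⟨χ, h1, h2⟩ := H685.Alperin.exists_over hM hidx P hsup θ.2.1
    have h3 := H685.Alperin.isIrr_restrict hM P hsup h1
    have h4 : (θ.1 : N → ℂ) = fun n : N => (χ : G → ℂ) n := by
      by_contra hcon
      exact h2 (classInner_irr_ne θ.1.2 h3 hcon)
    have hov : H508.KB.Over N χ θ.1 := by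
      have h5 : classInner (fun n : N => (χ : G → ℂ) n) (θ.1 : N → ℂ) ≠ 0 := by
        rw [h4, classInner_irr_self h3]
        exact one_ne_zero
      exact H508.KB.over_iff.2 h5
    exact ⟨⟨χ, H668.XZ.mem0_of_over N hidx χ h1 θ.1 hov θ.2⟩, fun n => (congrFun h4 n).symm⟩
  choose f hf using key
  refine Nat.card_le_card_of_injective f fun a b hab => ?_
  apply Subtype.ext
  apply Subtype.ext
  funext n
  rw [← hf a n, ← hf b n, hab]

/-- **quotients by `p'`-subgroups** -/
theorem x0_surj (hM : IsPModular p M) {H : Type u} [Group H] [Finite H] {C : Type v} [Group C] {π : H →* C}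
    (hπ : Function.Surjective π) (hK : ¬ p ∣ Nat.card π.ker) : x0 p M H = x0 p M C := by
  have hfC : Finite C := Finite.of_surjective π hπ
  have hprime := Blocks.Local.isPrime_of_isPModular hM
  have f1 := finite_m0 p M C
  have f2 := finite_m0 p M H
  have hdeg : ∀ ψ : C → ℂ, charDegree (fun h : H => ψ (π h)) = charDegree ψ := by
    intro ψ
    change ⌊(ψ (π 1)).re⌋₊ = ⌊(ψ 1).re⌋₊
    rw [map_one]
  refine le_antisymm ?_ ?_
  · have key : ∀ χ : {χ : IrrCharacter H // Mem0 p M χ}, ∃ ψ : {χ : IrrCharacter C // Mem0 p M χ},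
        (χ.1 : H → ℂ) = fun h => (ψ.1 : C → ℂ) (π h) := by
      intro χ
      obtain ⟨ψ, h1, h2⟩ := Blocks.PrincipalInflate.exists_comp hM hπ hK χ.2.1
      refine ⟨⟨ψ, h1, ?_, ?_⟩, h2⟩
      · rw [← hdeg, ← h2]
        exact χ.2.2.1
      · refine alm_of_forall χ.2.2.2 fun c => ?_
        obtain ⟨h, rfl⟩ := hπ c
        exact ⟨h, (congrFun h2 h).symm⟩
    choose f hf using key
    refine Nat.card_le_card_of_injective f fun a b hab => ?_
    apply Subtype.ext
    apply Subtype.ext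
    rw [hf a, hf b, hab]
  · refine Nat.card_le_card_of_injective (fun χ : {χ : IrrCharacter C // Mem0 p M χ} =>
      (⟨⟨fun h : H => (χ.1 : C → ℂ) (π h), isIrr_comp π hπ χ.1.2⟩, H133.PB.mem_principalBlock_comp π hπ χ.2.1, ?_, ?_⟩ :
        {χ : IrrCharacter H // Mem0 p M χ})) ?_
    · have := hdeg (χ.1 : C → ℂ)
      intro h
      exact χ.2.2.1 (this ▸ h)
    · exact alm_of_forall χ.2.2.2 fun h => ⟨π h, rfl⟩
    · intro a b hab
      apply Subtype.ext
      apply Subtype.ext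
      funext c
      obtain ⟨h, rfl⟩ := hπ c
      exact congrArg (fun z : {χ : IrrCharacter H // Mem0 p M χ} => (z.1 : H → ℂ) h) hab

/-- an element of the group generated by a `p ^ a`-th power -/
theorem exists_zpow {K : Type*} [CommGroup K] {m : ℕ} {δ : K} (hδ : δ ^ m = 1) (hm : ¬ p ∣ m) (a : ℕ) :
    ∃ u : ℤ, (δ ^ (p ^ a)) ^ u = δ := by
  have hcop : IsCoprime ((p ^ a : ℕ) : ℤ) (m : ℤ) := by
    rw [Nat.isCoprime_iff_coprime]
    exact Nat.Coprime.pow_left _ ((Nat.Prime.coprime_iff_not_dvd hp.out).2 hm)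
  obtain ⟨u, v, huv⟩ := hcop
  refine ⟨u, ?_⟩
  have h1 : δ ^ (m : ℤ) = 1 := by rw [zpow_natCast, hδ]
  have h2 : δ ^ (u * ((p ^ a : ℕ) : ℤ) + v * (m : ℤ)) = δ := by rw [huv, zpow_one]
  rw [zpow_add, zpow_mul' δ v, h1, one_zpow, mul_one] at h2
  rw [← zpow_natCast, ← zpow_mul, mul_comm]
  exact h2

end general

/-! ### linear groups -/

section gl

open Matrix Cfsg.Agent.H107.AutU

variable {F : Type*} [Field F] [Fintype F] {n : ℕ} {p : ℕ} [hp : Fact p.Prime]

/-- the natural module -/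
noncomputable def natGL (P : Subgroup (GL (Fin n) F)) : P →* ((Fin n → F) ≃ₗ[F] (Fin n → F)) :=
  ((LinearMap.GeneralLinearGroup.generalLinearEquiv F (Fin n → F)).toMonoidHom.comp
    (Matrix.GeneralLinearGroup.toLin (n := Fin n) (R := F)).toMonoidHom).comp P.subtype

omit [Fintype F] in
theorem natGL_apply (P : Subgroup (GL (Fin n) F)) (g : P) (v : Fin n → F) :
    natGL P g v = ((g : GL (Fin n) F) : Matrix (Fin n) (Fin n) F) *ᵥ v := rfl

/-- an element of `GL_n` centralizing the `p`-group `P`, of determinant `δ ^ (p ^ a)` -/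
theorem exists_cent (hp2 : p ≠ 2) (hn : n ≠ 0) (hpF : (p : F) ≠ 0) {P : Subgroup (GL (Fin n) F)} (hP : IsPGroup p P)
    (δ : Fˣ) : ∃ (a : ℕ) (C : GL (Fin n) F), C ∈ centralizer (P : Set (GL (Fin n) F)) ∧
      Matrix.GeneralLinearGroup.det C = δ ^ (p ^ a) := by
  classical
  have hn' : NeZero n := ⟨hn⟩
  have hnt : Nontrivial (Fin n → F) := inferInstance
  have htop : (⊤ : Submodule F (Fin n → F)) ≠ ⊥ := top_ne_bot
  obtain ⟨W, -, hW⟩ := exists_mini (τ := natGL P) inv_top htop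
  have hcard : (Nat.card P : F) ≠ 0 := by
    obtain ⟨k, hk⟩ := hP.exists_card_eq
    rw [hk, Nat.cast_pow]
    exact pow_ne_zero _ hpF
  obtain ⟨C, hC, hc⟩ := maschke hcard hW.1
  have hWn : Nontrivial W := (Submodule.nontrivial_iff_ne_bot).2 hW.2.1
  obtain ⟨a, y, hy1, hy2⟩ := exists_end hp2 hP (irr_res hW) (δ : F)
  have hdet := det_extd (y := y) hc
  have hcom := extd_com hc hW.1 hC hy1
  have hunit : IsUnit (LinearMap.toMatrix' (extd hc y)).det := by
    rw [LinearMap.det_toMatrix', hdet, hy2]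
    exact (pow_ne_zero _ δ.ne_zero).isUnit
  refine ⟨a, Matrix.GeneralLinearGroup.mk'' (LinearMap.toMatrix' (extd hc y)) hunit, ?_, ?_⟩
  · rw [mem_centralizer_iff]
    intro g hg
    apply Units.ext
    change (g : Matrix (Fin n) (Fin n) F) * LinearMap.toMatrix' (extd hc y) = LinearMap.toMatrix' (extd hc y) * g
    apply Matrix.ext_of_mulVec_single
    intro i
    have h1 : ∀ v, (LinearMap.toMatrix' (extd hc y)) *ᵥ v = extd hc y v := fun v => by
      rw [← Matrix.toLin'_apply, Matrix.toLin'_toMatrix']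
    rw [← mulVec_mulVec, ← mulVec_mulVec, h1, h1]
    exact (hcom ⟨g, hg⟩ _).symm
  · apply Units.ext
    change (LinearMap.toMatrix' (extd hc y)).det = _
    rw [LinearMap.det_toMatrix', hdet, hy2, Units.val_pow_eq_pow_val]

/-- `GL_n = SL_n C(P)` -/
theorem sup_gl (hp2 : p ≠ 2) (hn : n ≠ 0) (hpF : (p : F) ≠ 0) (hpq : ¬ p ∣ Fintype.card F - 1)
    (P : Sylow p (GL (Fin n) F)) :
    (Matrix.GeneralLinearGroup.det : GL (Fin n) F →* Fˣ).ker ⊔ centralizer ((P : Subgroup (GL (Fin n) F)) : Set (GL (Fin n) F)) =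
      ⊤ := by
  classical
  rw [eq_top_iff]
  intro g _
  obtain ⟨a, C, hC1, hC2⟩ := exists_cent hp2 hn hpF P.2 (Matrix.GeneralLinearGroup.det g)
  have h1 : (Matrix.GeneralLinearGroup.det g) ^ (Fintype.card F - 1) = 1 := by
    rw [← Fintype.card_units]
    exact pow_card_eq_one
  obtain ⟨u, hu⟩ := exists_zpow h1 hpq a
  have h2 : g = (g * (C ^ u)⁻¹) * C ^ u := by rw [inv_mul_cancel_right]
  rw [h2]
  refine mul_mem (mem_sup_left ?_) (mem_sup_right (zpow_mem hC1 u))
  rw [MonoidHom.mem_ker, map_mul, map_inv, map_zpow, hC2, hu, mul_inv_cancel]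

/-- `SL_n` as a subgroup of `GL_n`, to `PSL_n` -/
def toPSL (n : ℕ) (F : Type*) [Field F] :
    (Matrix.GeneralLinearGroup.det : GL (Fin n) F →* Fˣ).ker →* Matrix.ProjectiveSpecialLinearGroup (Fin n) F :=
  (QuotientGroup.mk' _).comp
    { toFun := fun g => (⟨((g : GL (Fin n) F) : Matrix (Fin n) (Fin n) F), congrArg Units.val g.2⟩ :
        Matrix.SpecialLinearGroup (Fin n) F)
      map_one' := rfl
      map_mul' := fun _ _ => rfl }

omit [Fintype F] in
theorem toPSL_surjective : Function.Surjective (toPSL n F) := by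
  intro x
  obtain ⟨g, rfl⟩ := QuotientGroup.mk_surjective x
  refine ⟨⟨Matrix.SpecialLinearGroup.toGL g, ?_⟩, rfl⟩
  rw [MonoidHom.mem_ker]
  apply Units.ext
  exact g.2

theorem toPSL_ker (hn : n ≠ 0) (hpq : ¬ p ∣ Fintype.card F - 1) : ¬ p ∣ Nat.card (toPSL n F).ker := by
  classical
  intro h
  obtain ⟨⟨g, hg⟩, hgo⟩ := exists_prime_orderOf_dvd_card' p h
  have hg1 := (QuotientGroup.eq_one_iff _).1 (show QuotientGroup.mk' _ _ = 1 from hg)
  obtain ⟨r, -, hr⟩ := (Matrix.SpecialLinearGroup.mem_center_iff).1 hg1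
  have hr' : Matrix.scalar (Fin n) r = ((g : GL (Fin n) F) : Matrix (Fin n) (Fin n) F) := hr
  have h1 : (g : GL (Fin n) F) ^ p = 1 := by
    have h2 := pow_orderOf_eq_one (⟨g, hg⟩ : (toPSL n F).ker)
    rw [hgo] at h2
    exact congrArg (fun z : (toPSL n F).ker => ((z : (Matrix.GeneralLinearGroup.det : GL (Fin n) F →* Fˣ).ker) : GL (Fin n) F)) h2
  have h2 : r ^ p = 1 := by
    have h3 : ((Matrix.scalar (Fin n) r) ^ p : Matrix (Fin n) (Fin n) F) = 1 := by
      rw [hr', ← Units.val_pow_eq_pow_val, h1, Units.val_one]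
    rw [← map_pow] at h3
    have h4 := congrFun (congrFun h3 ⟨0, Nat.pos_of_ne_zero hn⟩) ⟨0, Nat.pos_of_ne_zero hn⟩
    simpa using h4
  have hr0 : r ≠ 0 := by
    rintro rfl
    rw [zero_pow hp.out.ne_zero] at h2
    exact zero_ne_one h2
  have h3 : (Units.mk0 r hr0) ^ p = 1 := Units.ext (by simpa using h2)
  have h4 : Units.mk0 r hr0 = 1 := by
    have h5 : orderOf (Units.mk0 r hr0) ∣ p := orderOf_dvd_of_pow_eq_one h3
    rcases (Nat.dvd_prime hp.out).1 h5 with h6 | h6
    · exact orderOf_eq_one_iff.1 h6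
    · exfalso
      apply hpq
      rw [← h6, ← Fintype.card_units]
      exact orderOf_dvd_card
  have h5 : r = 1 := congrArg Units.val h4
  have h6 : g = 1 := by
    apply Subtype.ext
    apply Units.ext
    rw [← hr', h5, map_one]
    rfl
  have h7 : (⟨g, hg⟩ : (toPSL n F).ker) = 1 := Subtype.ext h6
  rw [h7, orderOf_one] at hgo
  exact hp.out.one_lt.ne hgo

/-- **The transfer from `GL_n` to `PSL_n`.** -/
theorem x0_gl {M : Ideal AlgInt} (hM : IsPModular p M) (hp2 : p ≠ 2) (hn : n ≠ 0) (hpF : (p : F) ≠ 0)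
    (hpq : ¬ p ∣ Fintype.card F - 1) {S : Type u} [Group S] [Finite S]
    (e : Nonempty (S ≃* Matrix.ProjectiveSpecialLinearGroup (Fin n) F)) : x0 p M (GL (Fin n) F) = x0 p M S := by
  classical
  obtain ⟨e⟩ := e
  obtain ⟨P⟩ : Nonempty (Sylow p (GL (Fin n) F)) := inferInstance
  have hidx : ¬ p ∣ (Matrix.GeneralLinearGroup.det : GL (Fin n) F →* Fˣ).ker.index := by
    rw [Subgroup.index_ker]
    intro h
    apply hpq
    rw [← Fintype.card_units, ← Nat.card_eq_fintype_card]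
    exact h.trans (Subgroup.card_subgroup_dvd_card _)
  rw [x0_normal hM _ hidx P (sup_gl hp2 hn hpF hpq P), x0_surj hM toPSL_surjective (toPSL_ker hn hpq)]
  symm
  have h1 : Function.Injective e.toMonoidHom := e.injective
  refine x0_surj hM (π := e.toMonoidHom) e.surjective ?_
  rw [(MonoidHom.ker_eq_bot_iff _).2 h1, Subgroup.card_bot]
  exact fun h => hp.out.one_lt.ne' (Nat.dvd_one.1 h)

end gl

end Cfsg.Agent.H577.XZ
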